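import Cfsg.Agent.Lib.Helper31.CTI.Defs
import Cfsg.Agent.Lib.Helper21.StronglyEmbedded

/-!
# Project CTI: basic consequences of `CData` (helper31)
-/

set_option autoImplicit false

namespace Cfsg.Agent.Lib.Helper31.CTI

open Cfsg Cfsg.Agent.Lib.Helper21

variable {G : Type*} [Group G] {M N : Subgroup G}

theorem cdata_le (h : CData M N) : M ≤ N := by
  rw [h.hN]; exact Subgroup.le_normalizer

theorem cdata_conj_mem (h : CData M N) {n m : G} (hn : n ∈ N) (hm : m ∈ M) : n * m * n⁻¹ ∈ M := by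
  rw [h.hN] at hn
  exact (Subgroup.mem_normalizer_iff.mp hn m).mp hm

theorem cdata_conj_mem' (h : CData M N) {n m : G} (hn : n ∈ N) (hm : m ∈ M) : n⁻¹ * m * n ∈ M := by
  have := cdata_conj_mem h (N.inv_mem hn) hm
  simpa using this

theorem cdata_coprime_relIndex [Finite G] (h : CData M N) :
    (Nat.card M).Coprime (M.relIndex N) := by
  have hd : M.relIndex N ∣ M.index := ⟨N.index, (Subgroup.relIndex_mul_index (cdata_le h)).symm⟩
  exact Nat.Coprime.coprime_dvd_right hd h.nice.hall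

/-- An element of `N` whose order divides `|M|` lies in `M`. -/
theorem cdata_mem_of_orderOf_dvd [Finite G] (h : CData M N) {y : G} (hyN : y ∈ N)
    (hy : orderOf y ∣ Nat.card M) : y ∈ M := by
  have : (M.subgroupOf N).Normal := by
    rw [h.hN]; exact Subgroup.normal_in_normalizer
  let q : N →* N ⧸ M.subgroupOf N := QuotientGroup.mk' _
  have h1 : orderOf (q ⟨y, hyN⟩) ∣ orderOf y := by
    have := orderOf_map_dvd q (⟨y, hyN⟩ : N)
    rwa [Subgroup.orderOf_mk] at this
  have h2 : orderOf (q ⟨y, hyN⟩) ∣ M.relIndex N := by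
    have := orderOf_dvd_natCard (q ⟨y, hyN⟩)
    exact this
  have h4 : orderOf (q ⟨y, hyN⟩) = 1 :=
    Nat.eq_one_of_dvd_coprimes (cdata_coprime_relIndex h) (h1.trans hy) h2
  rw [orderOf_eq_one_iff] at h4
  have h5 : (⟨y, hyN⟩ : N) ∈ M.subgroupOf N := (QuotientGroup.eq_one_iff _).mp h4
  exact Subgroup.mem_subgroupOf.mp h5

/-- A nonidentity element of `M` fixes only the base point. -/
theorem cdata_M_fix [Finite G] (h : CData M N) {m : G} (hm : m ∈ M) (hm1 : m ≠ 1) {g : G}
    (hg : g⁻¹ * m * g ∈ N) : g ∈ N := by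
  have hord : orderOf (g⁻¹ * m * g) ∣ Nat.card M := by
    have : orderOf (g⁻¹ * m * g) = orderOf m := by
      have := MulEquiv.orderOf_eq (MulAut.conj g⁻¹) m
      simpa [MulAut.conj_apply] using this
    rw [this]
    have := orderOf_dvd_natCard (⟨m, hm⟩ : M)
    rwa [Subgroup.orderOf_mk] at this
  have hxM : g⁻¹ * m * g ∈ M := cdata_mem_of_orderOf_dvd h hg hord
  by_contra hgN
  rw [h.hN] at hgN
  have := h.nice.ti g hgN (g⁻¹ * m * g) hxM (by
    have : g * (g⁻¹ * m * g) * g⁻¹ = m := by group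
    rw [this]; exact hm)
  apply hm1
  have h2 : m = g * (g⁻¹ * m * g) * g⁻¹ := by group
  rw [h2, this]; group

end Cfsg.Agent.Lib.Helper31.CTI
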