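import Cfsg.Agent.Lib.Helper31.CTI.CThreeOf
import Cfsg.Agent.Lib.Helper62.CTI.CDB

/-!
# Project CTI, module [C-THREE] exact (helper31)
-/

set_option autoImplicit false

namespace Cfsg.Agent.Lib.Helper31.CTI

variable {G : Type*} [Group G] {M N : Subgroup G}

/-- [C-THREE] no nonidentity element fixes three points of `G ⧸ N`. -/
theorem cdata_fix_three [Finite G] (h : CData M N) (g : G) (a b c : G ⧸ N) (hab : a ≠ b)
    (hbc : b ≠ c) (hac : a ≠ c) (ha : g • a = a) (hb : g • b = b) (hc : g • c = c) : g = 1 :=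
  cdata_fix_three_of h (cdata_stronglyEmbedded h)
    (fun _ htN ht => (cdata_involution h htN ht).1)
    (fun _ hu huN => cdata_dSub_inverts h hu huN) g a b c hab hbc hac ha hb hc

end Cfsg.Agent.Lib.Helper31.CTI
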