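import Cfsg.Agent.Lib.Helper31.CTI.Basic

/-!
# Project CTI, module [C-THREE] in `_of` form (helper31)

No nonidentity element fixes three points of `G ⧸ N`; the upstream modules [C-SE], [C-INV], [C-DB]
enter as hypotheses.
-/

set_option autoImplicit false

namespace Cfsg.Agent.Lib.Helper31.CTI

open Cfsg Cfsg.Agent.Lib.Helper21

variable {G : Type*} [Group G] {M N : Subgroup G}

section

variable [Finite G] (h : CData M N) (hSE : Cfsg.IsStronglyEmbedded N)
  (hINV : ∀ t ∈ N, orderOf t = 2 → t ∈ M)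
  (hDB : ∀ u : G, orderOf u = 2 → u ∉ N → ∀ d ∈ dSub N u, u * d * u⁻¹ = d⁻¹)

include hDB in
/-- An involution swapping two fixed points of `d` inverts `d`. -/
theorem three_swap_inverts {w d : G} (hw : orderOf w = 2) {x y : G ⧸ N} (hxy : x ≠ y)
    (hwx : w • x = y) (hdx : d • x = x) (hdy : d • y = y) : w * d * w⁻¹ = d⁻¹ := by
  obtain ⟨g, rfl⟩ := QuotientGroup.mk_surjective x
  have hw' : orderOf (g⁻¹ * w * g) = 2 := by
    have := orderOf_conj_eq_two hw g⁻¹
    simpa using this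
  have hw'N : g⁻¹ * w * g ∉ N := by
    intro hmem
    have := (smul_mk_eq_mk_iff (H := N) w g).mpr hmem
    exact hxy (this.symm.trans hwx)
  have hd'N : g⁻¹ * d * g ∈ N := (smul_mk_eq_mk_iff (H := N) d g).mp hdx
  have hd'2 : g⁻¹ * d * g ∈ N.map (MulAut.conj (g⁻¹ * w * g)).toMonoidHom := by
    rw [mem_map_conj_iff]
    have e : (g⁻¹ * w * g)⁻¹ * (g⁻¹ * d * g) * (g⁻¹ * w * g) = g⁻¹ * (w⁻¹ * d * w) * g := by group
    rw [e, ← smul_mk_eq_mk_iff (H := N)]
    rw [mul_smul, mul_smul, hwx, hdy, ← hwx, ← mul_smul, inv_mul_cancel, one_smul]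
  have key := hDB _ hw' hw'N (g⁻¹ * d * g) (Subgroup.mem_inf.mpr ⟨hd'N, hd'2⟩)
  have e1 : w * d * w⁻¹ = g * ((g⁻¹ * w * g) * (g⁻¹ * d * g) * (g⁻¹ * w * g)⁻¹) * g⁻¹ := by group
  rw [e1, key]; group

include h hSE hINV in
/-- No involution fixing a fixed point of `d` inverts `d`. -/
theorem three_inv_fix {s d : G} (hs : orderOf s = 2) {x y : G ⧸ N} (hxy : x ≠ y)
    (hsx : s • x = x) (hdx : d • x = x) (hdy : d • y = y) (hsd : s * d * s⁻¹ = d⁻¹) : d = 1 := by
  obtain ⟨g, rfl⟩ := QuotientGroup.mk_surjective x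
  obtain ⟨k, rfl⟩ := QuotientGroup.mk_surjective y
  have hs' : orderOf (g⁻¹ * s * g) = 2 := by
    have := orderOf_conj_eq_two hs g⁻¹
    simpa using this
  have hs'N : g⁻¹ * s * g ∈ N := (smul_mk_eq_mk_iff (H := N) s g).mp hsx
  have hs'M : g⁻¹ * s * g ∈ M := hINV _ hs'N hs'
  have hd'N : g⁻¹ * d * g ∈ N := (smul_mk_eq_mk_iff (H := N) d g).mp hdx
  have hdk : k⁻¹ * d * k ∈ N := (smul_mk_eq_mk_iff (H := N) d k).mp hdy
  -- `(d'⁻¹)² ∈ M`
  have hM2 : (g⁻¹ * d * g)⁻¹ * (g⁻¹ * d * g)⁻¹ ∈ M := by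
    have h1 : (g⁻¹ * d * g) * (g⁻¹ * s * g)⁻¹ * (g⁻¹ * d * g)⁻¹ ∈ M :=
      cdata_conj_mem h hd'N (M.inv_mem hs'M)
    have h2 := M.mul_mem hs'M h1
    have e : (g⁻¹ * s * g) * ((g⁻¹ * d * g) * (g⁻¹ * s * g)⁻¹ * (g⁻¹ * d * g)⁻¹)
        = g⁻¹ * ((s * d * s⁻¹) * d⁻¹) * g := by group
    rw [e, hsd] at h2
    have e2 : (g⁻¹ * d * g)⁻¹ * (g⁻¹ * d * g)⁻¹ = g⁻¹ * (d⁻¹ * d⁻¹) * g := by group
    rw [e2]; exact h2
  have hdd : d * d = 1 := by
    by_contra hne
    have hm1 : (g⁻¹ * d * g)⁻¹ * (g⁻¹ * d * g)⁻¹ ≠ 1 := by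
      intro h1
      apply hne
      have e2 : (g⁻¹ * d * g)⁻¹ * (g⁻¹ * d * g)⁻¹ = g⁻¹ * (d * d)⁻¹ * g := by group
      rw [e2] at h1
      have : (d * d)⁻¹ = 1 := by
        have h3 : (d * d)⁻¹ = g * (g⁻¹ * (d * d)⁻¹ * g) * g⁻¹ := by group
        rw [h3, h1]; group
      exact inv_eq_one.mp this
    have hfix : (g⁻¹ * k)⁻¹ * ((g⁻¹ * d * g)⁻¹ * (g⁻¹ * d * g)⁻¹) * (g⁻¹ * k) ∈ N := by
      have e : (g⁻¹ * k)⁻¹ * ((g⁻¹ * d * g)⁻¹ * (g⁻¹ * d * g)⁻¹) * (g⁻¹ * k)
          = (k⁻¹ * d * k)⁻¹ * (k⁻¹ * d * k)⁻¹ := by group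
      rw [e]; exact N.mul_mem (N.inv_mem hdk) (N.inv_mem hdk)
    have := cdata_M_fix h hM2 hm1 hfix
    apply hxy
    exact QuotientGroup.eq.mpr this
  have hodd := se_odd_orderOf_of_fixes_two hSE hxy hdx hdy
  have hdvd : orderOf d ∣ 2 := orderOf_dvd_of_pow_eq_one (by rw [pow_two]; exact hdd)
  have h1 : orderOf d = 1 := by
    rcases (Nat.dvd_prime Nat.prime_two).mp hdvd with h1 | h2
    · exact h1
    · rw [h2] at hodd; exact absurd hodd (by decide)
  exact orderOf_eq_one_iff.mp h1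

include h hSE hINV in
/-- No involution commutes with a nonidentity element fixing two points. -/
theorem three_no_comm_inv {s d : G} (hs : orderOf s = 2) (hd1 : d ≠ 1) {x y : G ⧸ N} (hxy : x ≠ y)
    (hdx : d • x = x) (hdy : d • y = y) (hsd : s * d = d * s) : False := by
  obtain ⟨ω, hω, huniq⟩ := se_existsUnique_fixed hSE hs
  have hdω : d • ω = ω := by
    apply huniq
    show s • (d • ω) = d • ω
    rw [← mul_smul, hsd, mul_smul, hω]
  -- a fixed point `p ≠ ω` of `d`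
  obtain ⟨p, hpω, hdp⟩ : ∃ p : G ⧸ N, p ≠ ω ∧ d • p = p := by
    by_cases hx : x = ω
    · exact ⟨y, fun hy => hxy (hx.trans hy.symm), hdy⟩
    · exact ⟨x, hx, hdx⟩
  obtain ⟨g, rfl⟩ := QuotientGroup.mk_surjective ω
  obtain ⟨k, rfl⟩ := QuotientGroup.mk_surjective p
  have hs' : orderOf (g⁻¹ * s * g) = 2 := by
    have := orderOf_conj_eq_two hs g⁻¹
    simpa using this
  have hs'N : g⁻¹ * s * g ∈ N := (smul_mk_eq_mk_iff (H := N) s g).mp hω
  have hs'M : g⁻¹ * s * g ∈ M := hINV _ hs'N hs'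
  have hs'1 : g⁻¹ * s * g ≠ 1 := inv_ne_one hs'
  have hd'N : g⁻¹ * d * g ∈ N := (smul_mk_eq_mk_iff (H := N) d g).mp hdω
  have hdk : k⁻¹ * d * k ∈ N := (smul_mk_eq_mk_iff (H := N) d k).mp hdp
  have hd'M : g⁻¹ * d * g ∈ M := by
    apply h.nice.cc _ hs'M hs'1
    rw [Subgroup.mem_centralizer_iff]
    intro z hz
    rw [Set.mem_singleton_iff] at hz
    subst hz
    have e1 : (g⁻¹ * s * g) * (g⁻¹ * d * g) = g⁻¹ * (s * d) * g := by group
    have e2 : (g⁻¹ * d * g) * (g⁻¹ * s * g) = g⁻¹ * (d * s) * g := by group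
    rw [e1, e2, hsd]
  have hd'1 : g⁻¹ * d * g ≠ 1 := by
    intro h1
    apply hd1
    have : d = g * (g⁻¹ * d * g) * g⁻¹ := by group
    rw [this, h1]; group
  have hfix : (g⁻¹ * k)⁻¹ * (g⁻¹ * d * g) * (g⁻¹ * k) ∈ N := by
    have e : (g⁻¹ * k)⁻¹ * (g⁻¹ * d * g) * (g⁻¹ * k) = k⁻¹ * d * k := by group
    rw [e]; exact hdk
  have := cdata_M_fix h hd'M hd'1 hfix
  apply hpω
  exact (QuotientGroup.eq.mpr this).symm

include h hSE hINV in
/-- Elements commuting with a nonidentity element fixing two points have odd order. -/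
theorem three_centralizer_odd {c d : G} (hd1 : d ≠ 1) {x y : G ⧸ N} (hxy : x ≠ y)
    (hdx : d • x = x) (hdy : d • y = y) (hcd : c * d = d * c) : Odd (orderOf c) := by
  by_contra hnodd
  rw [Nat.not_odd_iff_even] at hnodd
  obtain ⟨k, hk⟩ := hnodd
  have hpos : 0 < orderOf c := orderOf_pos c
  have hkpos : 0 < k := by omega
  have hzz : c ^ k * c ^ k = 1 := by rw [← pow_add, ← hk]; exact pow_orderOf_eq_one c
  have hz1 : c ^ k ≠ 1 := by
    intro h1
    have := orderOf_dvd_of_pow_eq_one h1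
    have h2 : orderOf c ≤ k := Nat.le_of_dvd hkpos this
    omega
  have hz2 : orderOf (c ^ k) = 2 := orderOf_eq_two_of hz1 hzz
  have hcomm : c ^ k * d = d * c ^ k := by
    have : Commute c d := hcd
    exact (this.pow_left k).eq
  exact three_no_comm_inv h hSE hINV hz2 hd1 hxy hdx hdy hcomm

include h hSE hINV hDB in
/-- The centralizer of a nonidentity element fixing two points fixes all its fixed points. -/
theorem three_centralizer_fix {c d : G} (hd1 : d ≠ 1) {x y : G ⧸ N} (hxy : x ≠ y)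
    (hdx : d • x = x) (hdy : d • y = y) (hcd : c * d = d * c) : c • x = x := by
  by_contra hcx
  -- the point `c • x` is fixed by `d`
  have hdcx : d • (c • x) = c • x := by
    rw [← mul_smul, ← hcd, mul_smul, hdx]
  -- an involution swapping `x` and `c • x`
  obtain ⟨s1, hs1, hs1x⟩ := se_exists_involution_fixing hSE x
  obtain ⟨s2, hs2, hs2x⟩ := se_exists_involution_fixing hSE (c • x)
  obtain ⟨w, hw, hwx, hwy, -, -⟩ :=
    se_exists_swap_conj hSE hs1 hs2 (Ne.symm hcx) hs1x hs2x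
  have hwd : w * d * w⁻¹ = d⁻¹ := three_swap_inverts hDB hw (Ne.symm hcx) hwx hdx hdcx
  -- `g = c⁻¹ w` fixes `x` and inverts `d`
  set g := c⁻¹ * w with hg
  have hgx : g • x = x := by
    rw [hg, mul_smul, hwx, ← mul_smul, inv_mul_cancel, one_smul]
  have hcd' : c⁻¹ * d⁻¹ * c = d⁻¹ := by
    have : d⁻¹ * c = c * d⁻¹ := by
      have hc : Commute c d := hcd
      exact (hc.inv_right).eq.symm
    rw [mul_assoc, this, ← mul_assoc, inv_mul_cancel, one_mul]
  have hgd : g * d * g⁻¹ = d⁻¹ := by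
    have e : g * d * g⁻¹ = c⁻¹ * (w * d * w⁻¹) * c := by rw [hg]; group
    rw [e, hwd, hcd']
  -- `g * g` commutes with `d`, so has odd order
  have hggd : (g * g) * d = d * (g * g) := by
    have h1 : g * d = d⁻¹ * g := by
      have : g * d = (g * d * g⁻¹) * g := by group
      rw [this, hgd]
    have h2 : g * d⁻¹ = d * g := by
      have : g * d⁻¹ = (g * d * g⁻¹)⁻¹ * g := by group
      rw [this, hgd, inv_inv]
    calc g * g * d = g * (g * d) := by group
      _ = g * (d⁻¹ * g) := by rw [h1]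
      _ = (g * d⁻¹) * g := by group
      _ = d * g * g := by rw [h2]
      _ = d * (g * g) := by group
  obtain ⟨j, hj⟩ := three_centralizer_odd h hSE hINV hd1 hxy hdx hdy hggd
  -- `s = g ^ (2j+1)` is an involution fixing `x` and inverting `d`
  set s := g ^ (2 * j + 1) with hs
  have hss : s * s = 1 := by
    have : s * s = (g * g) ^ (2 * j + 1) := by
      rw [hs, ← pow_add, ← pow_two, ← pow_mul]
      congr 1; ring
    rw [this, ← hj]; exact pow_orderOf_eq_one _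
  have hpowinv : ∀ n : ℕ, g ^ n * d * (g ^ n)⁻¹ = if Even n then d else d⁻¹ := by
    intro n
    induction n with
    | zero => simp
    | succ n ih =>
      have e : g ^ (n + 1) * d * (g ^ (n + 1))⁻¹ = g * (g ^ n * d * (g ^ n)⁻¹) * g⁻¹ := by
        rw [pow_succ']; group
      rw [e, ih]
      by_cases hn : Even n
      · have : ¬ Even (n + 1) := by
          rw [Nat.even_add_one]; exact not_not.mpr hn
        rw [if_pos hn, if_neg this, hgd]
      · have : Even (n + 1) := by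
          rw [Nat.even_add_one]; exact hn
        rw [if_neg hn, if_pos this]
        have : g * d⁻¹ * g⁻¹ = (g * d * g⁻¹)⁻¹ := by group
        rw [this, hgd, inv_inv]
  have hsd : s * d * s⁻¹ = d⁻¹ := by
    rw [hs, hpowinv]
    have : ¬ Even (2 * j + 1) := by
      rw [Nat.not_even_iff_odd]; exact ⟨j, rfl⟩
    rw [if_neg this]
  have hsx : s • x = x := by
    rw [hs]
    have : ∀ n : ℕ, g ^ n • x = x := by
      intro n
      induction n with
      | zero => simp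
      | succ n ihn => rw [pow_succ, mul_smul, hgx, ihn]
    exact this _
  have hs1' : s ≠ 1 := by
    intro h1
    rw [h1] at hsd
    have hdd : d = d⁻¹ := by simpa using hsd
    have hdd2 : d * d = 1 := by
      calc d * d = d * d⁻¹ := by rw [← hdd]
        _ = 1 := mul_inv_cancel d
    have hodd := se_odd_orderOf_of_fixes_two hSE hxy hdx hdy
    have hdvd : orderOf d ∣ 2 := orderOf_dvd_of_pow_eq_one (by rw [pow_two]; exact hdd2)
    rcases (Nat.dvd_prime Nat.prime_two).mp hdvd with h1 | h2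
    · exact hd1 (orderOf_eq_one_iff.mp h1)
    · rw [h2] at hodd; exact absurd hodd (by decide)
  have hs2' : orderOf s = 2 := orderOf_eq_two_of hs1' hss
  exact hd1 (three_inv_fix h hSE hINV hs2' hxy hsx hdx hdy hsd)

include h hSE hINV hDB in
/-- [C-THREE], `_of` form. -/
theorem cdata_fix_three_of (g : G) (a b c : G ⧸ N) (hab : a ≠ b)
    (hbc : b ≠ c) (hac : a ≠ c) (ha : g • a = a) (hb : g • b = b) (hc : g • c = c) : g = 1 := by
  by_contra hg1
  obtain ⟨sa, hsa, hsaa⟩ := se_exists_involution_fixing hSE a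
  obtain ⟨sb, hsb, hsbb⟩ := se_exists_involution_fixing hSE b
  obtain ⟨sc, hsc, hscc⟩ := se_exists_involution_fixing hSE c
  obtain ⟨w1, hw1, hw1a, hw1b, -, -⟩ := se_exists_swap_conj hSE hsa hsb hab hsaa hsbb
  obtain ⟨w2, hw2, hw2a, hw2c, -, -⟩ := se_exists_swap_conj hSE hsa hsc hac hsaa hscc
  have h1 : w1 * g * w1⁻¹ = g⁻¹ := three_swap_inverts hDB hw1 hab hw1a ha hb
  have h2 : w2 * g * w2⁻¹ = g⁻¹ := three_swap_inverts hDB hw2 hac hw2a ha hc
  have hcomm : (w1 * w2) * g = g * (w1 * w2) := by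
    have e1 : w2 * g = g⁻¹ * w2 := by
      have : w2 * g = (w2 * g * w2⁻¹) * w2 := by group
      rw [this, h2]
    have e2 : w1 * g⁻¹ = g * w1 := by
      have : w1 * g⁻¹ = (w1 * g * w1⁻¹)⁻¹ * w1 := by group
      rw [this, h1, inv_inv]
    calc w1 * w2 * g = w1 * (w2 * g) := by group
      _ = w1 * (g⁻¹ * w2) := by rw [e1]
      _ = (w1 * g⁻¹) * w2 := by group
      _ = g * w1 * w2 := by rw [e2]
      _ = g * (w1 * w2) := by group
  have hfix := three_centralizer_fix h hSE hINV hDB hg1 hab ha hb hcomm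
  rw [mul_smul, hw2a] at hfix
  -- `w1 • c = a`, so `c = w1 • a = b`
  have : c = b := by
    have h3 : w1 • (w1 • c) = c := by
      rw [← mul_smul, inv_mul_self hw1, one_smul]
    rw [hfix, hw1a] at h3
    exact h3.symm
  exact hbc this.symm

end

end Cfsg.Agent.Lib.Helper31.CTI
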