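import Mathlib
import Cfsg.Prelude.Def_OddOrderLocal
import Cfsg.Prelude.Def_Solvable
import Cfsg.Prelude.Def_Involutions
import Cfsg.Prelude.Def_LieExceptional

/-!
# Project CTI (statement S4064): definitions

`IsCTI G`: every element centralizer is a TI-subset (the hypothesis of S4064).
`IsNiceBlock M`: a nilpotent Hall TI subgroup containing the centralizers of its nonidentity
elements ("block": the centralizer of a nonidentity central element of a Sylow subgroup).
`CData M N`: the configuration of the non-Frobenius case (N = N_G(M) strongly embedded).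
-/

set_option autoImplicit false

namespace Cfsg.Agent.Lib.Helper31.CTI

/-- Every element centralizer is a TI-subset. -/
def IsCTI (G : Type*) [Group G] : Prop :=
  ∀ x : G, Cfsg.IsTISubset (Subgroup.centralizer ({x} : Set G) : Set G)

/-- A nontrivial nilpotent Hall subgroup `M` which is TI and contains the centralizer of each of its
nonidentity elements. -/
structure IsNiceBlock {G : Type*} [Group G] (M : Subgroup G) : Prop where
  nil : Group.IsNilpotent M
  ne_bot : M ≠ ⊥
  cc : ∀ m ∈ M, m ≠ 1 → Subgroup.centralizer ({m} : Set G) ≤ M
  ti : ∀ g : G, g ∉ Subgroup.normalizer (M : Set G) → ∀ x ∈ M, g * x * g⁻¹ ∈ M → x = 1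
  hall : (Nat.card M).Coprime M.index

/-- The configuration of the simple case: `M` a nice block of even order, `N = N_G(M)` with
`M < N < G`, and `G` has no nontrivial abelian normal subgroup. -/
structure CData {G : Type*} [Group G] (M N : Subgroup G) : Prop where
  nice : IsNiceBlock M
  hN : N = Subgroup.normalizer (M : Set G)
  even : Even (Nat.card M)
  lt : M ≠ N
  ne_top : N ≠ ⊤
  noab : ∀ K : Subgroup G, K.Normal → (∀ a ∈ K, ∀ b ∈ K, a * b = b * a) → K = ⊥

/-- The two-point stabilizer attached to an involution `u ∉ N`. -/
def dSub {G : Type*} [Group G] (N : Subgroup G) (u : G) : Subgroup G :=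
  N ⊓ N.map (MulAut.conj u).toMonoidHom

end Cfsg.Agent.Lib.Helper31.CTI
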